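/-
Certificate data of a coset enumeration.
-/
import Cfsg.Agent.Lib.CosetEnum.Fi31671.Data

set_option autoImplicit false
set_option maxRecDepth 1000000

namespace CfsgLib.CosetEnum.Fi31671

open CfsgLib.CosetEnum

theorem points8_ok : okPoints table 10 rels 4000 500 = true := by decide +kernel

theorem points9_ok : okPoints table 10 rels 4500 500 = true := by decide +kernel

theorem points10_ok : okPoints table 10 rels 5000 500 = true := by decide +kernel

theorem points11_ok : okPoints table 10 rels 5500 500 = true := by decide +kernel

theorem points12_ok : okPoints table 10 rels 6000 500 = true := by decide +kernel

theorem points13_ok : okPoints table 10 rels 6500 500 = true := by decide +kernel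

theorem points14_ok : okPoints table 10 rels 7000 500 = true := by decide +kernel

theorem points15_ok : okPoints table 10 rels 7500 500 = true := by decide +kernel


end CfsgLib.CosetEnum.Fi31671
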