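/-
Certificate data of a coset enumeration.
-/
import Cfsg.Agent.Lib.CosetEnum.Fi31671.Data

set_option autoImplicit false
set_option maxRecDepth 1000000

namespace CfsgLib.CosetEnum.Fi31671

open CfsgLib.CosetEnum

theorem points16_ok : okPoints table 10 rels 8000 500 = true := by decide +kernel

theorem points17_ok : okPoints table 10 rels 8500 500 = true := by decide +kernel

theorem points18_ok : okPoints table 10 rels 9000 500 = true := by decide +kernel

theorem points19_ok : okPoints table 10 rels 9500 500 = true := by decide +kernel

theorem points20_ok : okPoints table 10 rels 10000 500 = true := by decide +kernel

theorem points21_ok : okPoints table 10 rels 10500 500 = true := by decide +kernel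

theorem points22_ok : okPoints table 10 rels 11000 500 = true := by decide +kernel

theorem points23_ok : okPoints table 10 rels 11500 500 = true := by decide +kernel


end CfsgLib.CosetEnum.Fi31671
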