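/-
Certificate data of a coset enumeration.
-/
import Cfsg.Agent.Lib.CosetEnum.Fi31671.Data

set_option autoImplicit false
set_option maxRecDepth 1000000

namespace CfsgLib.CosetEnum.Fi31671

open CfsgLib.CosetEnum

theorem points24_ok : okPoints table 10 rels 12000 500 = true := by decide +kernel

theorem points25_ok : okPoints table 10 rels 12500 500 = true := by decide +kernel

theorem points26_ok : okPoints table 10 rels 13000 500 = true := by decide +kernel

theorem points27_ok : okPoints table 10 rels 13500 500 = true := by decide +kernel

theorem points28_ok : okPoints table 10 rels 14000 500 = true := by decide +kernel

theorem points29_ok : okPoints table 10 rels 14500 500 = true := by decide +kernel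

theorem points30_ok : okPoints table 10 rels 15000 500 = true := by decide +kernel

theorem points31_ok : okPoints table 10 rels 15500 500 = true := by decide +kernel


end CfsgLib.CosetEnum.Fi31671
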