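/-
Certificate data of a coset enumeration.
-/
import Cfsg.Agent.Lib.CosetEnum.Fi31671.Data

set_option autoImplicit false
set_option maxRecDepth 1000000

namespace CfsgLib.CosetEnum.Fi31671

open CfsgLib.CosetEnum

theorem points48_ok : okPoints table 10 rels 24000 500 = true := by decide +kernel

theorem points49_ok : okPoints table 10 rels 24500 500 = true := by decide +kernel

theorem points50_ok : okPoints table 10 rels 25000 500 = true := by decide +kernel

theorem points51_ok : okPoints table 10 rels 25500 500 = true := by decide +kernel

theorem points52_ok : okPoints table 10 rels 26000 500 = true := by decide +kernel

theorem points53_ok : okPoints table 10 rels 26500 500 = true := by decide +kernel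

theorem points54_ok : okPoints table 10 rels 27000 500 = true := by decide +kernel

theorem points55_ok : okPoints table 10 rels 27500 500 = true := by decide +kernel


end CfsgLib.CosetEnum.Fi31671
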