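/-
Certificate data of a coset enumeration.
-/
import Cfsg.Agent.Lib.CosetEnum.Cox
import Cfsg.Agent.Lib.CosetEnum.PresFi23
import Cfsg.Agent.Lib.CosetEnum.Orbit
import Cfsg.Agent.Lib.CosetEnum.Fi31671.OrbData
import Cfsg.Agent.Lib.CosetEnum.Fi31671.Facts0
import Cfsg.Agent.Lib.CosetEnum.Fi31671.Facts1
import Cfsg.Agent.Lib.CosetEnum.Fi31671.Facts2
import Cfsg.Agent.Lib.CosetEnum.Fi31671.Facts3
import Cfsg.Agent.Lib.CosetEnum.Fi31671.Facts4
import Cfsg.Agent.Lib.CosetEnum.Fi31671.Facts5
import Cfsg.Agent.Lib.CosetEnum.Fi31671.Facts6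
import Cfsg.Agent.Lib.CosetEnum.Fi31671.Facts7
import Cfsg.Agent.Lib.CosetEnum.Fi31671.Facts8
import Cfsg.Agent.Lib.CosetEnum.Fi31671.Facts9
import Cfsg.Agent.Lib.CosetEnum.Fi31671.Facts10
import Cfsg.Agent.Lib.CosetEnum.Fi31671.Facts11
import Cfsg.Agent.Lib.CosetEnum.Fi31671.Facts12
import Cfsg.Agent.Lib.CosetEnum.Fi31671.Facts13
import Cfsg.Agent.Lib.CosetEnum.Fi31671.Facts14
import Cfsg.Agent.Lib.CosetEnum.Fi31671.Facts15
import Cfsg.Agent.Lib.CosetEnum.Fi31671.Facts16
import Cfsg.Agent.Lib.CosetEnum.Fi31671.Facts17
import Cfsg.Agent.Lib.CosetEnum.Fi31671.Facts18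
import Cfsg.Agent.Lib.CosetEnum.Fi31671.Facts19
import Cfsg.Agent.Lib.CosetEnum.Fi31671.Facts20
import Cfsg.Agent.Lib.CosetEnum.Fi31671.Facts21
import Cfsg.Agent.Lib.CosetEnum.Fi31671.Facts22
import Cfsg.Agent.Lib.CosetEnum.Fi31671.Facts23
import Cfsg.Agent.Lib.CosetEnum.Fi31671.Facts24
import Cfsg.Agent.Lib.CosetEnum.Fi31671.Facts25
import Cfsg.Agent.Lib.CosetEnum.Fi31671.Facts26
import Cfsg.Agent.Lib.CosetEnum.Fi31671.Facts27
import Cfsg.Agent.Lib.CosetEnum.Fi31671.Facts28
import Cfsg.Agent.Lib.CosetEnum.Fi31671.Facts29
import Cfsg.Agent.Lib.CosetEnum.Fi31671.Facts30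
import Cfsg.Agent.Lib.CosetEnum.Fi31671.Facts31
import Cfsg.Agent.Lib.CosetEnum.Fi31671.Facts32
import Cfsg.Agent.Lib.CosetEnum.Fi31671.Facts33
import Cfsg.Agent.Lib.CosetEnum.Fi31671.Facts34
import Cfsg.Agent.Lib.CosetEnum.Fi31671.Facts35
import Cfsg.Agent.Lib.CosetEnum.Fi31671.Facts36
import Cfsg.Agent.Lib.CosetEnum.Fi31671.Facts37
import Cfsg.Agent.Lib.CosetEnum.Fi31671.Facts38
import Cfsg.Agent.Lib.CosetEnum.Fi31671.Facts39
import Cfsg.Agent.Lib.CosetEnum.Fi31671.Facts40
import Cfsg.Agent.Lib.CosetEnum.Fi31671.Facts41
import Cfsg.Agent.Lib.CosetEnum.Fi31671.Facts42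
import Cfsg.Agent.Lib.CosetEnum.Fi31671.Facts43
import Cfsg.Agent.Lib.CosetEnum.Fi31671.Facts44
import Cfsg.Agent.Lib.CosetEnum.Fi31671.Facts45
import Cfsg.Agent.Lib.CosetEnum.Fi31671.Facts46
import Cfsg.Agent.Lib.CosetEnum.Fi31671.Facts47
import Cfsg.Agent.Lib.CosetEnum.Fi31671.Facts48
import Cfsg.Agent.Lib.CosetEnum.Fi31671.Facts49
import Cfsg.Agent.Lib.CosetEnum.Fi31671.Facts50
import Cfsg.Agent.Lib.CosetEnum.Fi31671.Facts51
import Cfsg.Agent.Lib.CosetEnum.Fi31671.Facts52
import Cfsg.Agent.Lib.CosetEnum.Fi31671.Rows0
import Cfsg.Agent.Lib.CosetEnum.Fi31671.Rows1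
import Cfsg.Agent.Lib.CosetEnum.Fi31671.Rows2
import Cfsg.Agent.Lib.CosetEnum.Fi31671.Rows3
import Cfsg.Agent.Lib.CosetEnum.Fi31671.Rows4
import Cfsg.Agent.Lib.CosetEnum.Fi31671.Rows5
import Cfsg.Agent.Lib.CosetEnum.Fi31671.Rows6
import Cfsg.Agent.Lib.CosetEnum.Fi31671.Rows7
import Cfsg.Agent.Lib.CosetEnum.Fi31671.Rows8
import Cfsg.Agent.Lib.CosetEnum.Fi31671.Rows9
import Cfsg.Agent.Lib.CosetEnum.Fi31671.Rows10
import Cfsg.Agent.Lib.CosetEnum.Fi31671.Rows11
import Cfsg.Agent.Lib.CosetEnum.Fi31671.Rows12
import Cfsg.Agent.Lib.CosetEnum.Fi31671.Rows13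
import Cfsg.Agent.Lib.CosetEnum.Fi31671.Rows14
import Cfsg.Agent.Lib.CosetEnum.Fi31671.Rows15
import Cfsg.Agent.Lib.CosetEnum.Fi31671.Rows16
import Cfsg.Agent.Lib.CosetEnum.Fi31671.Rows17
import Cfsg.Agent.Lib.CosetEnum.Fi31671.Rows18
import Cfsg.Agent.Lib.CosetEnum.Fi31671.Rows19
import Cfsg.Agent.Lib.CosetEnum.Fi31671.Rows20
import Cfsg.Agent.Lib.CosetEnum.Fi31671.Rows21
import Cfsg.Agent.Lib.CosetEnum.Fi31671.Rows22
import Cfsg.Agent.Lib.CosetEnum.Fi31671.Rows23
import Cfsg.Agent.Lib.CosetEnum.Fi31671.Rows24
import Cfsg.Agent.Lib.CosetEnum.Fi31671.Rows25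
import Cfsg.Agent.Lib.CosetEnum.Fi31671.Rows26
import Cfsg.Agent.Lib.CosetEnum.Fi31671.Rows27
import Cfsg.Agent.Lib.CosetEnum.Fi31671.Rows28
import Cfsg.Agent.Lib.CosetEnum.Fi31671.Rows29
import Cfsg.Agent.Lib.CosetEnum.Fi31671.Rows30
import Cfsg.Agent.Lib.CosetEnum.Fi31671.Rows31
import Cfsg.Agent.Lib.CosetEnum.Fi31671.Points0
import Cfsg.Agent.Lib.CosetEnum.Fi31671.Points1
import Cfsg.Agent.Lib.CosetEnum.Fi31671.Points2
import Cfsg.Agent.Lib.CosetEnum.Fi31671.Points3
import Cfsg.Agent.Lib.CosetEnum.Fi31671.Points4
import Cfsg.Agent.Lib.CosetEnum.Fi31671.Points5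
import Cfsg.Agent.Lib.CosetEnum.Fi31671.Points6
import Cfsg.Agent.Lib.CosetEnum.Fi31671.Points7

set_option autoImplicit false
set_option maxRecDepth 1000000

namespace CfsgLib.CosetEnum.Fi31671

open CfsgLib.CosetEnum

theorem rels_eq : presFi23.rels = rels := by decide +kernel

theorem holds {Ω : Type} (base : Ω) (s : ℕ → Ω → Ω) (hinv : ∀ x v, s x (s x v) = v) (hk : ∀ v, s data.k v = v)
    (hwh : ∀ w < data.nh, run s (wordOf (data.words.get w)) base = base)
    (hwr : ∀ w, data.nh ≤ w → w < data.nw → ∀ v, run s (wordOf (data.words.get w)) v = v) :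
    ∀ i < 208719, data.Holds base s i := by
  have h0 : ∀ i < 0, data.Holds base s i := fun i hi => absurd hi (Nat.not_lt_zero i)
  have h1 : ∀ i < 4000, data.Holds base s i := fun i hi =>
    Data.okChunk_sound hinv hk hwh hwr just0 0 just0_ok h0 i (by rw [just0_len]; exact hi)
  have h2 : ∀ i < 8000, data.Holds base s i := fun i hi =>
    Data.okChunk_sound hinv hk hwh hwr just1 4000 just1_ok h1 i (by rw [just1_len]; exact hi)
  have h3 : ∀ i < 12000, data.Holds base s i := fun i hi =>
    Data.okChunk_sound hinv hk hwh hwr just2 8000 just2_ok h2 i (by rw [just2_len]; exact hi)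
  have h4 : ∀ i < 16000, data.Holds base s i := fun i hi =>
    Data.okChunk_sound hinv hk hwh hwr just3 12000 just3_ok h3 i (by rw [just3_len]; exact hi)
  have h5 : ∀ i < 20000, data.Holds base s i := fun i hi =>
    Data.okChunk_sound hinv hk hwh hwr just4 16000 just4_ok h4 i (by rw [just4_len]; exact hi)
  have h6 : ∀ i < 24000, data.Holds base s i := fun i hi =>
    Data.okChunk_sound hinv hk hwh hwr just5 20000 just5_ok h5 i (by rw [just5_len]; exact hi)
  have h7 : ∀ i < 28000, data.Holds base s i := fun i hi =>
    Data.okChunk_sound hinv hk hwh hwr just6 24000 just6_ok h6 i (by rw [just6_len]; exact hi)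
  have h8 : ∀ i < 32000, data.Holds base s i := fun i hi =>
    Data.okChunk_sound hinv hk hwh hwr just7 28000 just7_ok h7 i (by rw [just7_len]; exact hi)
  have h9 : ∀ i < 36000, data.Holds base s i := fun i hi =>
    Data.okChunk_sound hinv hk hwh hwr just8 32000 just8_ok h8 i (by rw [just8_len]; exact hi)
  have h10 : ∀ i < 40000, data.Holds base s i := fun i hi =>
    Data.okChunk_sound hinv hk hwh hwr just9 36000 just9_ok h9 i (by rw [just9_len]; exact hi)
  have h11 : ∀ i < 44000, data.Holds base s i := fun i hi =>
    Data.okChunk_sound hinv hk hwh hwr just10 40000 just10_ok h10 i (by rw [just10_len]; exact hi)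
  have h12 : ∀ i < 48000, data.Holds base s i := fun i hi =>
    Data.okChunk_sound hinv hk hwh hwr just11 44000 just11_ok h11 i (by rw [just11_len]; exact hi)
  have h13 : ∀ i < 52000, data.Holds base s i := fun i hi =>
    Data.okChunk_sound hinv hk hwh hwr just12 48000 just12_ok h12 i (by rw [just12_len]; exact hi)
  have h14 : ∀ i < 56000, data.Holds base s i := fun i hi =>
    Data.okChunk_sound hinv hk hwh hwr just13 52000 just13_ok h13 i (by rw [just13_len]; exact hi)
  have h15 : ∀ i < 60000, data.Holds base s i := fun i hi =>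
    Data.okChunk_sound hinv hk hwh hwr just14 56000 just14_ok h14 i (by rw [just14_len]; exact hi)
  have h16 : ∀ i < 64000, data.Holds base s i := fun i hi =>
    Data.okChunk_sound hinv hk hwh hwr just15 60000 just15_ok h15 i (by rw [just15_len]; exact hi)
  have h17 : ∀ i < 68000, data.Holds base s i := fun i hi =>
    Data.okChunk_sound hinv hk hwh hwr just16 64000 just16_ok h16 i (by rw [just16_len]; exact hi)
  have h18 : ∀ i < 72000, data.Holds base s i := fun i hi =>
    Data.okChunk_sound hinv hk hwh hwr just17 68000 just17_ok h17 i (by rw [just17_len]; exact hi)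
  have h19 : ∀ i < 76000, data.Holds base s i := fun i hi =>
    Data.okChunk_sound hinv hk hwh hwr just18 72000 just18_ok h18 i (by rw [just18_len]; exact hi)
  have h20 : ∀ i < 80000, data.Holds base s i := fun i hi =>
    Data.okChunk_sound hinv hk hwh hwr just19 76000 just19_ok h19 i (by rw [just19_len]; exact hi)
  have h21 : ∀ i < 84000, data.Holds base s i := fun i hi =>
    Data.okChunk_sound hinv hk hwh hwr just20 80000 just20_ok h20 i (by rw [just20_len]; exact hi)
  have h22 : ∀ i < 88000, data.Holds base s i := fun i hi =>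
    Data.okChunk_sound hinv hk hwh hwr just21 84000 just21_ok h21 i (by rw [just21_len]; exact hi)
  have h23 : ∀ i < 92000, data.Holds base s i := fun i hi =>
    Data.okChunk_sound hinv hk hwh hwr just22 88000 just22_ok h22 i (by rw [just22_len]; exact hi)
  have h24 : ∀ i < 96000, data.Holds base s i := fun i hi =>
    Data.okChunk_sound hinv hk hwh hwr just23 92000 just23_ok h23 i (by rw [just23_len]; exact hi)
  have h25 : ∀ i < 100000, data.Holds base s i := fun i hi =>
    Data.okChunk_sound hinv hk hwh hwr just24 96000 just24_ok h24 i (by rw [just24_len]; exact hi)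
  have h26 : ∀ i < 104000, data.Holds base s i := fun i hi =>
    Data.okChunk_sound hinv hk hwh hwr just25 100000 just25_ok h25 i (by rw [just25_len]; exact hi)
  have h27 : ∀ i < 108000, data.Holds base s i := fun i hi =>
    Data.okChunk_sound hinv hk hwh hwr just26 104000 just26_ok h26 i (by rw [just26_len]; exact hi)
  have h28 : ∀ i < 112000, data.Holds base s i := fun i hi =>
    Data.okChunk_sound hinv hk hwh hwr just27 108000 just27_ok h27 i (by rw [just27_len]; exact hi)
  have h29 : ∀ i < 116000, data.Holds base s i := fun i hi =>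
    Data.okChunk_sound hinv hk hwh hwr just28 112000 just28_ok h28 i (by rw [just28_len]; exact hi)
  have h30 : ∀ i < 120000, data.Holds base s i := fun i hi =>
    Data.okChunk_sound hinv hk hwh hwr just29 116000 just29_ok h29 i (by rw [just29_len]; exact hi)
  have h31 : ∀ i < 124000, data.Holds base s i := fun i hi =>
    Data.okChunk_sound hinv hk hwh hwr just30 120000 just30_ok h30 i (by rw [just30_len]; exact hi)
  have h32 : ∀ i < 128000, data.Holds base s i := fun i hi =>
    Data.okChunk_sound hinv hk hwh hwr just31 124000 just31_ok h31 i (by rw [just31_len]; exact hi)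
  have h33 : ∀ i < 132000, data.Holds base s i := fun i hi =>
    Data.okChunk_sound hinv hk hwh hwr just32 128000 just32_ok h32 i (by rw [just32_len]; exact hi)
  have h34 : ∀ i < 136000, data.Holds base s i := fun i hi =>
    Data.okChunk_sound hinv hk hwh hwr just33 132000 just33_ok h33 i (by rw [just33_len]; exact hi)
  have h35 : ∀ i < 140000, data.Holds base s i := fun i hi =>
    Data.okChunk_sound hinv hk hwh hwr just34 136000 just34_ok h34 i (by rw [just34_len]; exact hi)
  have h36 : ∀ i < 144000, data.Holds base s i := fun i hi =>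
    Data.okChunk_sound hinv hk hwh hwr just35 140000 just35_ok h35 i (by rw [just35_len]; exact hi)
  have h37 : ∀ i < 148000, data.Holds base s i := fun i hi =>
    Data.okChunk_sound hinv hk hwh hwr just36 144000 just36_ok h36 i (by rw [just36_len]; exact hi)
  have h38 : ∀ i < 152000, data.Holds base s i := fun i hi =>
    Data.okChunk_sound hinv hk hwh hwr just37 148000 just37_ok h37 i (by rw [just37_len]; exact hi)
  have h39 : ∀ i < 156000, data.Holds base s i := fun i hi =>
    Data.okChunk_sound hinv hk hwh hwr just38 152000 just38_ok h38 i (by rw [just38_len]; exact hi)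
  have h40 : ∀ i < 160000, data.Holds base s i := fun i hi =>
    Data.okChunk_sound hinv hk hwh hwr just39 156000 just39_ok h39 i (by rw [just39_len]; exact hi)
  have h41 : ∀ i < 164000, data.Holds base s i := fun i hi =>
    Data.okChunk_sound hinv hk hwh hwr just40 160000 just40_ok h40 i (by rw [just40_len]; exact hi)
  have h42 : ∀ i < 168000, data.Holds base s i := fun i hi =>
    Data.okChunk_sound hinv hk hwh hwr just41 164000 just41_ok h41 i (by rw [just41_len]; exact hi)
  have h43 : ∀ i < 172000, data.Holds base s i := fun i hi =>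
    Data.okChunk_sound hinv hk hwh hwr just42 168000 just42_ok h42 i (by rw [just42_len]; exact hi)
  have h44 : ∀ i < 176000, data.Holds base s i := fun i hi =>
    Data.okChunk_sound hinv hk hwh hwr just43 172000 just43_ok h43 i (by rw [just43_len]; exact hi)
  have h45 : ∀ i < 180000, data.Holds base s i := fun i hi =>
    Data.okChunk_sound hinv hk hwh hwr just44 176000 just44_ok h44 i (by rw [just44_len]; exact hi)
  have h46 : ∀ i < 184000, data.Holds base s i := fun i hi =>
    Data.okChunk_sound hinv hk hwh hwr just45 180000 just45_ok h45 i (by rw [just45_len]; exact hi)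
  have h47 : ∀ i < 188000, data.Holds base s i := fun i hi =>
    Data.okChunk_sound hinv hk hwh hwr just46 184000 just46_ok h46 i (by rw [just46_len]; exact hi)
  have h48 : ∀ i < 192000, data.Holds base s i := fun i hi =>
    Data.okChunk_sound hinv hk hwh hwr just47 188000 just47_ok h47 i (by rw [just47_len]; exact hi)
  have h49 : ∀ i < 196000, data.Holds base s i := fun i hi =>
    Data.okChunk_sound hinv hk hwh hwr just48 192000 just48_ok h48 i (by rw [just48_len]; exact hi)
  have h50 : ∀ i < 200000, data.Holds base s i := fun i hi =>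
    Data.okChunk_sound hinv hk hwh hwr just49 196000 just49_ok h49 i (by rw [just49_len]; exact hi)
  have h51 : ∀ i < 204000, data.Holds base s i := fun i hi =>
    Data.okChunk_sound hinv hk hwh hwr just50 200000 just50_ok h50 i (by rw [just50_len]; exact hi)
  have h52 : ∀ i < 208000, data.Holds base s i := fun i hi =>
    Data.okChunk_sound hinv hk hwh hwr just51 204000 just51_ok h51 i (by rw [just51_len]; exact hi)
  have h53 : ∀ i < 208719, data.Holds base s i := fun i hi =>
    Data.okChunk_sound hinv hk hwh hwr just52 208000 just52_ok h52 i (by rw [just52_len]; exact hi)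
  exact h53

theorem rows {Ω : Type} (base : Ω) (s : ℕ → Ω → Ω) (hinv : ∀ x v, s x (s x v) = v) (hk : ∀ v, s data.k v = v)
    (hwh : ∀ w < data.nh, run s (wordOf (data.words.get w)) base = base)
    (hwr : ∀ w, data.nh ≤ w → w < data.nw → ∀ v, run s (wordOf (data.words.get w)) v = v) :
    ∀ d < 31671, RowOK data table base s d := by
  have hf := holds base s hinv hk hwh hwr
  have hk16 : data.k < 16 := show 10 < 16 by decide
  have h0 : ∀ d < 0, RowOK data table base s d := fun d hd => absurd hd (Nat.not_lt_zero d)
  have h1 : ∀ d < 1000, RowOK data table base s d := fun d hd =>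
    okRows_sound hinv hk hk16 hf rows0 0 rows0_ok h0 d (by rw [rows0_len]; exact hd)
  have h2 : ∀ d < 2000, RowOK data table base s d := fun d hd =>
    okRows_sound hinv hk hk16 hf rows1 1000 rows1_ok h1 d (by rw [rows1_len]; exact hd)
  have h3 : ∀ d < 3000, RowOK data table base s d := fun d hd =>
    okRows_sound hinv hk hk16 hf rows2 2000 rows2_ok h2 d (by rw [rows2_len]; exact hd)
  have h4 : ∀ d < 4000, RowOK data table base s d := fun d hd =>
    okRows_sound hinv hk hk16 hf rows3 3000 rows3_ok h3 d (by rw [rows3_len]; exact hd)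
  have h5 : ∀ d < 5000, RowOK data table base s d := fun d hd =>
    okRows_sound hinv hk hk16 hf rows4 4000 rows4_ok h4 d (by rw [rows4_len]; exact hd)
  have h6 : ∀ d < 6000, RowOK data table base s d := fun d hd =>
    okRows_sound hinv hk hk16 hf rows5 5000 rows5_ok h5 d (by rw [rows5_len]; exact hd)
  have h7 : ∀ d < 7000, RowOK data table base s d := fun d hd =>
    okRows_sound hinv hk hk16 hf rows6 6000 rows6_ok h6 d (by rw [rows6_len]; exact hd)
  have h8 : ∀ d < 8000, RowOK data table base s d := fun d hd =>
    okRows_sound hinv hk hk16 hf rows7 7000 rows7_ok h7 d (by rw [rows7_len]; exact hd)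
  have h9 : ∀ d < 9000, RowOK data table base s d := fun d hd =>
    okRows_sound hinv hk hk16 hf rows8 8000 rows8_ok h8 d (by rw [rows8_len]; exact hd)
  have h10 : ∀ d < 10000, RowOK data table base s d := fun d hd =>
    okRows_sound hinv hk hk16 hf rows9 9000 rows9_ok h9 d (by rw [rows9_len]; exact hd)
  have h11 : ∀ d < 11000, RowOK data table base s d := fun d hd =>
    okRows_sound hinv hk hk16 hf rows10 10000 rows10_ok h10 d (by rw [rows10_len]; exact hd)
  have h12 : ∀ d < 12000, RowOK data table base s d := fun d hd =>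
    okRows_sound hinv hk hk16 hf rows11 11000 rows11_ok h11 d (by rw [rows11_len]; exact hd)
  have h13 : ∀ d < 13000, RowOK data table base s d := fun d hd =>
    okRows_sound hinv hk hk16 hf rows12 12000 rows12_ok h12 d (by rw [rows12_len]; exact hd)
  have h14 : ∀ d < 14000, RowOK data table base s d := fun d hd =>
    okRows_sound hinv hk hk16 hf rows13 13000 rows13_ok h13 d (by rw [rows13_len]; exact hd)
  have h15 : ∀ d < 15000, RowOK data table base s d := fun d hd =>
    okRows_sound hinv hk hk16 hf rows14 14000 rows14_ok h14 d (by rw [rows14_len]; exact hd)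
  have h16 : ∀ d < 16000, RowOK data table base s d := fun d hd =>
    okRows_sound hinv hk hk16 hf rows15 15000 rows15_ok h15 d (by rw [rows15_len]; exact hd)
  have h17 : ∀ d < 17000, RowOK data table base s d := fun d hd =>
    okRows_sound hinv hk hk16 hf rows16 16000 rows16_ok h16 d (by rw [rows16_len]; exact hd)
  have h18 : ∀ d < 18000, RowOK data table base s d := fun d hd =>
    okRows_sound hinv hk hk16 hf rows17 17000 rows17_ok h17 d (by rw [rows17_len]; exact hd)
  have h19 : ∀ d < 19000, RowOK data table base s d := fun d hd =>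
    okRows_sound hinv hk hk16 hf rows18 18000 rows18_ok h18 d (by rw [rows18_len]; exact hd)
  have h20 : ∀ d < 20000, RowOK data table base s d := fun d hd =>
    okRows_sound hinv hk hk16 hf rows19 19000 rows19_ok h19 d (by rw [rows19_len]; exact hd)
  have h21 : ∀ d < 21000, RowOK data table base s d := fun d hd =>
    okRows_sound hinv hk hk16 hf rows20 20000 rows20_ok h20 d (by rw [rows20_len]; exact hd)
  have h22 : ∀ d < 22000, RowOK data table base s d := fun d hd =>
    okRows_sound hinv hk hk16 hf rows21 21000 rows21_ok h21 d (by rw [rows21_len]; exact hd)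
  have h23 : ∀ d < 23000, RowOK data table base s d := fun d hd =>
    okRows_sound hinv hk hk16 hf rows22 22000 rows22_ok h22 d (by rw [rows22_len]; exact hd)
  have h24 : ∀ d < 24000, RowOK data table base s d := fun d hd =>
    okRows_sound hinv hk hk16 hf rows23 23000 rows23_ok h23 d (by rw [rows23_len]; exact hd)
  have h25 : ∀ d < 25000, RowOK data table base s d := fun d hd =>
    okRows_sound hinv hk hk16 hf rows24 24000 rows24_ok h24 d (by rw [rows24_len]; exact hd)
  have h26 : ∀ d < 26000, RowOK data table base s d := fun d hd =>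
    okRows_sound hinv hk hk16 hf rows25 25000 rows25_ok h25 d (by rw [rows25_len]; exact hd)
  have h27 : ∀ d < 27000, RowOK data table base s d := fun d hd =>
    okRows_sound hinv hk hk16 hf rows26 26000 rows26_ok h26 d (by rw [rows26_len]; exact hd)
  have h28 : ∀ d < 28000, RowOK data table base s d := fun d hd =>
    okRows_sound hinv hk hk16 hf rows27 27000 rows27_ok h27 d (by rw [rows27_len]; exact hd)
  have h29 : ∀ d < 29000, RowOK data table base s d := fun d hd =>
    okRows_sound hinv hk hk16 hf rows28 28000 rows28_ok h28 d (by rw [rows28_len]; exact hd)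
  have h30 : ∀ d < 30000, RowOK data table base s d := fun d hd =>
    okRows_sound hinv hk hk16 hf rows29 29000 rows29_ok h29 d (by rw [rows29_len]; exact hd)
  have h31 : ∀ d < 31000, RowOK data table base s d := fun d hd =>
    okRows_sound hinv hk hk16 hf rows30 30000 rows30_ok h30 d (by rw [rows30_len]; exact hd)
  have h32 : ∀ d < 31671, RowOK data table base s d := fun d hd =>
    okRows_sound hinv hk hk16 hf rows31 31000 rows31_ok h31 d (by rw [rows31_len]; exact hd)
  exact h32

theorem points : ∀ d < 31671, PointOK table 10 presFi23.rels d := by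
  rw [rels_eq]
  have h0 : ∀ d < 0, PointOK table 10 rels d := fun d hd => absurd hd (Nat.not_lt_zero d)
  have h1 : ∀ d < 500, PointOK table 10 rels d := okPoints_sound points0_ok h0
  have h2 : ∀ d < 1000, PointOK table 10 rels d := okPoints_sound points1_ok h1
  have h3 : ∀ d < 1500, PointOK table 10 rels d := okPoints_sound points2_ok h2
  have h4 : ∀ d < 2000, PointOK table 10 rels d := okPoints_sound points3_ok h3
  have h5 : ∀ d < 2500, PointOK table 10 rels d := okPoints_sound points4_ok h4
  have h6 : ∀ d < 3000, PointOK table 10 rels d := okPoints_sound points5_ok h5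
  have h7 : ∀ d < 3500, PointOK table 10 rels d := okPoints_sound points6_ok h6
  have h8 : ∀ d < 4000, PointOK table 10 rels d := okPoints_sound points7_ok h7
  have h9 : ∀ d < 4500, PointOK table 10 rels d := okPoints_sound points8_ok h8
  have h10 : ∀ d < 5000, PointOK table 10 rels d := okPoints_sound points9_ok h9
  have h11 : ∀ d < 5500, PointOK table 10 rels d := okPoints_sound points10_ok h10
  have h12 : ∀ d < 6000, PointOK table 10 rels d := okPoints_sound points11_ok h11
  have h13 : ∀ d < 6500, PointOK table 10 rels d := okPoints_sound points12_ok h12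
  have h14 : ∀ d < 7000, PointOK table 10 rels d := okPoints_sound points13_ok h13
  have h15 : ∀ d < 7500, PointOK table 10 rels d := okPoints_sound points14_ok h14
  have h16 : ∀ d < 8000, PointOK table 10 rels d := okPoints_sound points15_ok h15
  have h17 : ∀ d < 8500, PointOK table 10 rels d := okPoints_sound points16_ok h16
  have h18 : ∀ d < 9000, PointOK table 10 rels d := okPoints_sound points17_ok h17
  have h19 : ∀ d < 9500, PointOK table 10 rels d := okPoints_sound points18_ok h18
  have h20 : ∀ d < 10000, PointOK table 10 rels d := okPoints_sound points19_ok h19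
  have h21 : ∀ d < 10500, PointOK table 10 rels d := okPoints_sound points20_ok h20
  have h22 : ∀ d < 11000, PointOK table 10 rels d := okPoints_sound points21_ok h21
  have h23 : ∀ d < 11500, PointOK table 10 rels d := okPoints_sound points22_ok h22
  have h24 : ∀ d < 12000, PointOK table 10 rels d := okPoints_sound points23_ok h23
  have h25 : ∀ d < 12500, PointOK table 10 rels d := okPoints_sound points24_ok h24
  have h26 : ∀ d < 13000, PointOK table 10 rels d := okPoints_sound points25_ok h25
  have h27 : ∀ d < 13500, PointOK table 10 rels d := okPoints_sound points26_ok h26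
  have h28 : ∀ d < 14000, PointOK table 10 rels d := okPoints_sound points27_ok h27
  have h29 : ∀ d < 14500, PointOK table 10 rels d := okPoints_sound points28_ok h28
  have h30 : ∀ d < 15000, PointOK table 10 rels d := okPoints_sound points29_ok h29
  have h31 : ∀ d < 15500, PointOK table 10 rels d := okPoints_sound points30_ok h30
  have h32 : ∀ d < 16000, PointOK table 10 rels d := okPoints_sound points31_ok h31
  have h33 : ∀ d < 16500, PointOK table 10 rels d := okPoints_sound points32_ok h32
  have h34 : ∀ d < 17000, PointOK table 10 rels d := okPoints_sound points33_ok h33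
  have h35 : ∀ d < 17500, PointOK table 10 rels d := okPoints_sound points34_ok h34
  have h36 : ∀ d < 18000, PointOK table 10 rels d := okPoints_sound points35_ok h35
  have h37 : ∀ d < 18500, PointOK table 10 rels d := okPoints_sound points36_ok h36
  have h38 : ∀ d < 19000, PointOK table 10 rels d := okPoints_sound points37_ok h37
  have h39 : ∀ d < 19500, PointOK table 10 rels d := okPoints_sound points38_ok h38
  have h40 : ∀ d < 20000, PointOK table 10 rels d := okPoints_sound points39_ok h39
  have h41 : ∀ d < 20500, PointOK table 10 rels d := okPoints_sound points40_ok h40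
  have h42 : ∀ d < 21000, PointOK table 10 rels d := okPoints_sound points41_ok h41
  have h43 : ∀ d < 21500, PointOK table 10 rels d := okPoints_sound points42_ok h42
  have h44 : ∀ d < 22000, PointOK table 10 rels d := okPoints_sound points43_ok h43
  have h45 : ∀ d < 22500, PointOK table 10 rels d := okPoints_sound points44_ok h44
  have h46 : ∀ d < 23000, PointOK table 10 rels d := okPoints_sound points45_ok h45
  have h47 : ∀ d < 23500, PointOK table 10 rels d := okPoints_sound points46_ok h46
  have h48 : ∀ d < 24000, PointOK table 10 rels d := okPoints_sound points47_ok h47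
  have h49 : ∀ d < 24500, PointOK table 10 rels d := okPoints_sound points48_ok h48
  have h50 : ∀ d < 25000, PointOK table 10 rels d := okPoints_sound points49_ok h49
  have h51 : ∀ d < 25500, PointOK table 10 rels d := okPoints_sound points50_ok h50
  have h52 : ∀ d < 26000, PointOK table 10 rels d := okPoints_sound points51_ok h51
  have h53 : ∀ d < 26500, PointOK table 10 rels d := okPoints_sound points52_ok h52
  have h54 : ∀ d < 27000, PointOK table 10 rels d := okPoints_sound points53_ok h53
  have h55 : ∀ d < 27500, PointOK table 10 rels d := okPoints_sound points54_ok h54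
  have h56 : ∀ d < 28000, PointOK table 10 rels d := okPoints_sound points55_ok h55
  have h57 : ∀ d < 28500, PointOK table 10 rels d := okPoints_sound points56_ok h56
  have h58 : ∀ d < 29000, PointOK table 10 rels d := okPoints_sound points57_ok h57
  have h59 : ∀ d < 29500, PointOK table 10 rels d := okPoints_sound points58_ok h58
  have h60 : ∀ d < 30000, PointOK table 10 rels d := okPoints_sound points59_ok h59
  have h61 : ∀ d < 30500, PointOK table 10 rels d := okPoints_sound points60_ok h60
  have h62 : ∀ d < 31000, PointOK table 10 rels d := okPoints_sound points61_ok h61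
  have h63 : ∀ d < 31500, PointOK table 10 rels d := okPoints_sound points62_ok h62
  have h64 : ∀ d < 31671, PointOK table 10 rels d := okPoints_sound points63_ok h63
  exact h64

theorem words_ok : okWords data presFi23.rels hw rots = true := by
  rw [rels_eq]; decide +kernel

/-- The certified enumeration. -/
noncomputable def cert : Cert presFi23 where
  D := data
  T := table
  hw := hw
  rots := rots
  nf := 208719
  hk := rfl
  hk16 := show 10 < 16 by decide
  nh_le := show 9 ≤ 126 by decide
  hn := show 0 < 31671 by decide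
  hrep := by decide +kernel
  words_ok := words_ok
  facts_ok := rows
  points_ok := points
  base_ok := by decide +kernel

theorem hlt : ∀ w ∈ presFi23.rels, ∀ x ∈ w, x < presFi23.k := by
  rw [rels_eq]; exact (show ∀ w ∈ rels, ∀ x ∈ w, x < 10 by decide +kernel)

theorem hhw : ∀ w ∈ hw, ∀ x ∈ w, x < 10 := by decide +kernel

theorem orbs : ∀ d < 31671, okOrb table 10 hwR orb roots d = true := by
  have h0 : ∀ d < 0, okOrb table 10 hwR orb roots d = true := fun d hd => absurd hd (Nat.not_lt_zero d)
  have h1 : ∀ d < 500, okOrb table 10 hwR orb roots d = true := okOrbs_sound orbs0_ok h0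
  have h2 : ∀ d < 1000, okOrb table 10 hwR orb roots d = true := okOrbs_sound orbs1_ok h1
  have h3 : ∀ d < 1500, okOrb table 10 hwR orb roots d = true := okOrbs_sound orbs2_ok h2
  have h4 : ∀ d < 2000, okOrb table 10 hwR orb roots d = true := okOrbs_sound orbs3_ok h3
  have h5 : ∀ d < 2500, okOrb table 10 hwR orb roots d = true := okOrbs_sound orbs4_ok h4
  have h6 : ∀ d < 3000, okOrb table 10 hwR orb roots d = true := okOrbs_sound orbs5_ok h5
  have h7 : ∀ d < 3500, okOrb table 10 hwR orb roots d = true := okOrbs_sound orbs6_ok h6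
  have h8 : ∀ d < 4000, okOrb table 10 hwR orb roots d = true := okOrbs_sound orbs7_ok h7
  have h9 : ∀ d < 4500, okOrb table 10 hwR orb roots d = true := okOrbs_sound orbs8_ok h8
  have h10 : ∀ d < 5000, okOrb table 10 hwR orb roots d = true := okOrbs_sound orbs9_ok h9
  have h11 : ∀ d < 5500, okOrb table 10 hwR orb roots d = true := okOrbs_sound orbs10_ok h10
  have h12 : ∀ d < 6000, okOrb table 10 hwR orb roots d = true := okOrbs_sound orbs11_ok h11
  have h13 : ∀ d < 6500, okOrb table 10 hwR orb roots d = true := okOrbs_sound orbs12_ok h12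
  have h14 : ∀ d < 7000, okOrb table 10 hwR orb roots d = true := okOrbs_sound orbs13_ok h13
  have h15 : ∀ d < 7500, okOrb table 10 hwR orb roots d = true := okOrbs_sound orbs14_ok h14
  have h16 : ∀ d < 8000, okOrb table 10 hwR orb roots d = true := okOrbs_sound orbs15_ok h15
  have h17 : ∀ d < 8500, okOrb table 10 hwR orb roots d = true := okOrbs_sound orbs16_ok h16
  have h18 : ∀ d < 9000, okOrb table 10 hwR orb roots d = true := okOrbs_sound orbs17_ok h17
  have h19 : ∀ d < 9500, okOrb table 10 hwR orb roots d = true := okOrbs_sound orbs18_ok h18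
  have h20 : ∀ d < 10000, okOrb table 10 hwR orb roots d = true := okOrbs_sound orbs19_ok h19
  have h21 : ∀ d < 10500, okOrb table 10 hwR orb roots d = true := okOrbs_sound orbs20_ok h20
  have h22 : ∀ d < 11000, okOrb table 10 hwR orb roots d = true := okOrbs_sound orbs21_ok h21
  have h23 : ∀ d < 11500, okOrb table 10 hwR orb roots d = true := okOrbs_sound orbs22_ok h22
  have h24 : ∀ d < 12000, okOrb table 10 hwR orb roots d = true := okOrbs_sound orbs23_ok h23
  have h25 : ∀ d < 12500, okOrb table 10 hwR orb roots d = true := okOrbs_sound orbs24_ok h24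
  have h26 : ∀ d < 13000, okOrb table 10 hwR orb roots d = true := okOrbs_sound orbs25_ok h25
  have h27 : ∀ d < 13500, okOrb table 10 hwR orb roots d = true := okOrbs_sound orbs26_ok h26
  have h28 : ∀ d < 14000, okOrb table 10 hwR orb roots d = true := okOrbs_sound orbs27_ok h27
  have h29 : ∀ d < 14500, okOrb table 10 hwR orb roots d = true := okOrbs_sound orbs28_ok h28
  have h30 : ∀ d < 15000, okOrb table 10 hwR orb roots d = true := okOrbs_sound orbs29_ok h29
  have h31 : ∀ d < 15500, okOrb table 10 hwR orb roots d = true := okOrbs_sound orbs30_ok h30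
  have h32 : ∀ d < 16000, okOrb table 10 hwR orb roots d = true := okOrbs_sound orbs31_ok h31
  have h33 : ∀ d < 16500, okOrb table 10 hwR orb roots d = true := okOrbs_sound orbs32_ok h32
  have h34 : ∀ d < 17000, okOrb table 10 hwR orb roots d = true := okOrbs_sound orbs33_ok h33
  have h35 : ∀ d < 17500, okOrb table 10 hwR orb roots d = true := okOrbs_sound orbs34_ok h34
  have h36 : ∀ d < 18000, okOrb table 10 hwR orb roots d = true := okOrbs_sound orbs35_ok h35
  have h37 : ∀ d < 18500, okOrb table 10 hwR orb roots d = true := okOrbs_sound orbs36_ok h36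
  have h38 : ∀ d < 19000, okOrb table 10 hwR orb roots d = true := okOrbs_sound orbs37_ok h37
  have h39 : ∀ d < 19500, okOrb table 10 hwR orb roots d = true := okOrbs_sound orbs38_ok h38
  have h40 : ∀ d < 20000, okOrb table 10 hwR orb roots d = true := okOrbs_sound orbs39_ok h39
  have h41 : ∀ d < 20500, okOrb table 10 hwR orb roots d = true := okOrbs_sound orbs40_ok h40
  have h42 : ∀ d < 21000, okOrb table 10 hwR orb roots d = true := okOrbs_sound orbs41_ok h41
  have h43 : ∀ d < 21500, okOrb table 10 hwR orb roots d = true := okOrbs_sound orbs42_ok h42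
  have h44 : ∀ d < 22000, okOrb table 10 hwR orb roots d = true := okOrbs_sound orbs43_ok h43
  have h45 : ∀ d < 22500, okOrb table 10 hwR orb roots d = true := okOrbs_sound orbs44_ok h44
  have h46 : ∀ d < 23000, okOrb table 10 hwR orb roots d = true := okOrbs_sound orbs45_ok h45
  have h47 : ∀ d < 23500, okOrb table 10 hwR orb roots d = true := okOrbs_sound orbs46_ok h46
  have h48 : ∀ d < 24000, okOrb table 10 hwR orb roots d = true := okOrbs_sound orbs47_ok h47
  have h49 : ∀ d < 24500, okOrb table 10 hwR orb roots d = true := okOrbs_sound orbs48_ok h48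
  have h50 : ∀ d < 25000, okOrb table 10 hwR orb roots d = true := okOrbs_sound orbs49_ok h49
  have h51 : ∀ d < 25500, okOrb table 10 hwR orb roots d = true := okOrbs_sound orbs50_ok h50
  have h52 : ∀ d < 26000, okOrb table 10 hwR orb roots d = true := okOrbs_sound orbs51_ok h51
  have h53 : ∀ d < 26500, okOrb table 10 hwR orb roots d = true := okOrbs_sound orbs52_ok h52
  have h54 : ∀ d < 27000, okOrb table 10 hwR orb roots d = true := okOrbs_sound orbs53_ok h53
  have h55 : ∀ d < 27500, okOrb table 10 hwR orb roots d = true := okOrbs_sound orbs54_ok h54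
  have h56 : ∀ d < 28000, okOrb table 10 hwR orb roots d = true := okOrbs_sound orbs55_ok h55
  have h57 : ∀ d < 28500, okOrb table 10 hwR orb roots d = true := okOrbs_sound orbs56_ok h56
  have h58 : ∀ d < 29000, okOrb table 10 hwR orb roots d = true := okOrbs_sound orbs57_ok h57
  have h59 : ∀ d < 29500, okOrb table 10 hwR orb roots d = true := okOrbs_sound orbs58_ok h58
  have h60 : ∀ d < 30000, okOrb table 10 hwR orb roots d = true := okOrbs_sound orbs59_ok h59
  have h61 : ∀ d < 30500, okOrb table 10 hwR orb roots d = true := okOrbs_sound orbs60_ok h60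
  have h62 : ∀ d < 31000, okOrb table 10 hwR orb roots d = true := okOrbs_sound orbs61_ok h61
  have h63 : ∀ d < 31500, okOrb table 10 hwR orb roots d = true := okOrbs_sound orbs62_ok h62
  have h64 : ∀ d < 31671, okOrb table 10 hwR orb roots d = true := okOrbs_sound orbs63_ok h63
  exact h64


end CfsgLib.CosetEnum.Fi31671
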