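/-
Certificate data of a coset enumeration.
-/
import Cfsg.Agent.Lib.CosetEnum.Fi31671.Data

set_option autoImplicit false
set_option maxRecDepth 1000000

namespace CfsgLib.CosetEnum.Fi31671

open CfsgLib.CosetEnum

theorem points40_ok : okPoints table 10 rels 20000 500 = true := by decide +kernel

theorem points41_ok : okPoints table 10 rels 20500 500 = true := by decide +kernel

theorem points42_ok : okPoints table 10 rels 21000 500 = true := by decide +kernel

theorem points43_ok : okPoints table 10 rels 21500 500 = true := by decide +kernel

theorem points44_ok : okPoints table 10 rels 22000 500 = true := by decide +kernel

theorem points45_ok : okPoints table 10 rels 22500 500 = true := by decide +kernel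

theorem points46_ok : okPoints table 10 rels 23000 500 = true := by decide +kernel

theorem points47_ok : okPoints table 10 rels 23500 500 = true := by decide +kernel


end CfsgLib.CosetEnum.Fi31671
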